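import Groth.Agent.S2928
import Groth.Agent.Lib.DecSh20.Embed
import Groth.Agent.Lib.Regularity10.Transfer
import Groth.Agent.Lib.Ref1.Tensor
import Groth.Agent.Lib.OmegaFree.Basic
import Groth.Agent.Lib.Seesaw26.Scheme
import Groth.Agent.Lib.Faltings.Transfer
import Groth.Agent.Lib.Depth17.Global
import Groth.Agent.Lib.Euler.Rank
import Groth.Agent.Lib.OX.ClosedPush
import Groth.Agent.Lib.OX.TensorAssoc
import Groth.Agent.Lib.NegTwist.H1
import Groth.Agent.Lib.Cube.Pic

/-!
# Vanishing of low cohomology for very negative twists of modules of high depth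
-/

set_option autoImplicit false
set_option linter.style.haveILetI false

universe u

open CategoryTheory CategoryTheory.Limits AlgebraicGeometry
open scoped TensorProduct

noncomputable section

namespace GrothLib.NegVan7

variable {X : Scheme.{u}}

theorem depth_stalk_tensor (G : X.Modules) {M : X.Modules} (hM : PicF.IsInvertible M) (x : X) :
    LocCoh.depth (X.presheaf.stalk x) ((CohB1.tensorMod G M).presheaf.stalk x) =
      LocCoh.depth (X.presheaf.stalk x) (G.presheaf.stalk x) := by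
  obtain ⟨b⟩ := OmegaFree.exists_basis_stalk ((Seesaw26.isInvertible_iff_rank_one M).2 hM) x
  exact Depth17.idealDepth_congr _ (Ref1.tensorStalk G M x ≪≫ₗ
    TensorProduct.congr (LinearEquiv.refl _ _) (b.equivFun ≪≫ₗ LinearEquiv.funUnique (Fin 1) _ _) ≪≫ₗ
    TensorProduct.rid _ _)

theorem depth_stalk_push {Y : Scheme.{u}} (f : X ⟶ Y) [IsClosedImmersion f] [IsLocallyNoetherian X]
    [IsLocallyNoetherian Y] {G : X.Modules} (hG : Coh.IsCoh G)
    (hP : Coh.IsCoh ((Scheme.Modules.pushforward f).obj G)) (x : X) :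
    LocCoh.depth (Y.presheaf.stalk (f x)) (((Scheme.Modules.pushforward f).obj G).presheaf.stalk (f x)) =
      LocCoh.depth (X.presheaf.stalk x) (G.presheaf.stalk x) := by
  let A := Y.presheaf.stalk (f x)
  let B := X.presheaf.stalk x
  let φ : A →+* B := (f.stalkMap x).hom
  letI : Algebra A B := φ.toAlgebra
  letI : Module A (G.presheaf.stalk x) := Module.compHom _ φ
  haveI : IsScalarTower A B (G.presheaf.stalk x) := IsScalarTower.of_algebraMap_smul fun _ _ => rfl
  let e : ((Scheme.Modules.pushforward f).obj G).presheaf.stalk (f x) ≃ₗ[A] G.presheaf.stalk x :=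
    ((OX.pushStalkIso f x).app G).toLinearEquiv
  haveI := Euler.stalk_finite hG x
  haveI := Euler.stalk_finite hP (f x)
  haveI : Module.Finite A (G.presheaf.stalk x) := Module.Finite.equiv e
  exact (Depth17.idealDepth_congr _ e).trans
    (Faltings.depth_eq_of_surjective (f.stalkMap_surjective x) (G.presheaf.stalk x))

theorem clsMod_of_inverse {L M : X.Modules} (hL : PicF.IsInvertible L) (hM : PicF.IsInvertible M)
    (h : ClSub.IsInverseOf L M) : Cube.clsMod hM = (Cube.clsMod hL)⁻¹ :=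
  eq_inv_of_mul_eq_one_right (by rw [← Cube.clsMod_tensorMod hL hM]; exact (Cube.clsMod_eq_one_iff _).2 h)

theorem clsMod_twist (N : ℕ) (k : Type u) [Field k] (q : ℕ) :
    Cube.clsMod (CMReg.isInvertible_twist (n := N) (k := k) (-(q : ℤ))) =
      (Cube.clsMod (CMReg.isInvertible_twist (n := N) (k := k) 1) ^ q)⁻¹ := by
  have hq : Cube.clsMod (CMReg.isInvertible_twist (n := N) (k := k) (q : ℤ)) =
      Cube.clsMod (CMReg.isInvertible_twist (n := N) (k := k) 1) ^ q := by
    rw [← Cube.clsMod_tensorPow (CMReg.isInvertible_twist (n := N) (k := k) 1)]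
    exact (Cube.clsMod_eq_iff _ _).2 (GrTilde.nonempty_twist_iso_tensorPow (𝒜 := CohB1.polyGrading N k) CMReg.h1 q)
  refine eq_inv_of_mul_eq_one_left ?_
  rw [← hq, ← Cube.clsMod_tensorMod, Cube.clsMod_eq_one_iff]
  obtain ⟨a⟩ := CMReg.nonempty_twist_add (n := N) (k := k) (neg_add_cancel (q : ℤ))
  obtain ⟨b⟩ := CMReg.nonempty_twist_zero (n := N) (k := k)
  exact ⟨a ≪≫ b⟩

variable (k : Type u) [Field k] [X.Over (Spec (CommRingCat.of k))]
  [IsProper (X ↘ Spec (CommRingCat.of k))]

include k in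
theorem isInvertible_of_inverse {L M : X.Modules} (hL : PicF.IsInvertible L) (h : ClSub.IsInverseOf L M) :
    PicF.IsInvertible M := by
  obtain ⟨c, ⟨e⟩⟩ := Ample.exists_cocycle hL
  obtain ⟨e'⟩ := NegTwist.nonempty_iso_inv c h e
  exact (NegTwist.inv c).isInvertible_of_iso e'

include k in
/-- The cohomology in degrees below the depth of `F(-m)` vanishes for `m` large. -/
theorem eventually_vanish {L M : X.Modules} (hL : CohB1.IsAmple L) (hinv : ClSub.IsInverseOf L M)
    {F : X.Modules} (hF : Coh.IsCoh F) (n : ℕ)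
    (hdepth : ∀ x : X, IsClosed ({x} : Set X) → (n : ℕ∞) < LocCoh.depth (X.presheaf.stalk x) (F.presheaf.stalk x)) :
    ∃ m₀ : ℕ, ∀ m : ℕ, m₀ ≤ m → ∀ i : ℕ, i ≤ n →
      Subsingleton (Coh.HH X (CohB1.tensorMod F (CohB1.tensorPow M m)) i) := by
  haveI := Euler.isNoetherian_of_proper (X := X) k
  obtain ⟨r, N, ι, hr, hc, hι, ⟨θ⟩⟩ := DecSh20.exists_embedding k hL
  haveI := hc
  haveI : IsNoetherianRing k := inferInstance
  let P := CohB1.ProjSpace N k
  have hM := isInvertible_of_inverse k hL.1 hinv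
  let G : ℕ → X.Modules := fun ρ => CohB1.tensorMod F (CohB1.tensorPow M ρ)
  have hG : ∀ ρ, Coh.IsCoh (G ρ) := fun ρ => CMReg.isCoh_tensorMod hF (Ample.isInvertible_tensorPow hM ρ)
  have hPd : ∀ ρ, ∀ y : P, IsClosed ({y} : Set P) →
      (n : ℕ∞) < LocCoh.depth (P.presheaf.stalk y) (((Scheme.Modules.pushforward ι).obj (G ρ)).presheaf.stalk y) := by
    intro ρ y hy
    by_cases hy' : y ∈ Set.range ι
    · obtain ⟨x, rfl⟩ := hy'
      rw [depth_stalk_push ι (hG ρ) (FormalExist7.isCoh_pushforward ι (hG ρ)) x,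
        depth_stalk_tensor F (Ample.isInvertible_tensorPow hM ρ) x]
      refine hdepth x ?_
      have := hy.preimage ι.continuous
      rwa [show (ι : X → P) ⁻¹' {ι x} = {x} from Set.ext fun z =>
        ⟨fun h => ι.isClosedEmbedding.injective h, fun h => congrArg (ι : X → P) h⟩] at this
    · haveI : Subsingleton (((Scheme.Modules.pushforward ι).obj (G ρ)).presheaf.stalk y) :=
        not_not.1 fun h => hy' (QCoh.support_pushforward_subset_range ι _ h)
      rw [Depth.depth_eq_top_of_subsingleton]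
      exact WithTop.coe_lt_top n
  have key : ∀ ρ, ∃ q₀ : ℕ, ∀ q : ℕ, q₀ ≤ q → ∀ i : ℕ, i ≤ n →
      Subsingleton (Coh.HH X (CohB1.tensorMod F (CohB1.tensorPow M (q * r + ρ))) i) := by
    intro ρ
    obtain ⟨m₀, hm₀⟩ := (Groth.Agent.S2928.result k N _ (FormalExist7.isCoh_pushforward ι (hG ρ)) n).2 (hPd ρ)
    refine ⟨m₀.toNat, fun q hq i hi => ?_⟩
    have hv := hm₀ (q : ℤ) (by omega) i hi
    have htw := CMReg.isInvertible_twist (n := N) (k := k) (-(q : ℤ))
    have hqr := Ample.isInvertible_tensorPow hM (q * r)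
    obtain ⟨g⟩ : Nonempty (CohB1.tensorPow M (q * r) ≅
        (Scheme.Modules.pullback ι).obj (Twist.twistProjSpace N k (-(q : ℤ)))) := by
      refine (Cube.clsMod_eq_iff hqr (Ample.isInvertible_pullback ι htw)).1 ?_
      have h1 : Cube.clsMod hL.1 ^ r =
          Cube.pull ι (Cube.clsMod (CMReg.isInvertible_twist (n := N) (k := k) 1)) := by
        rw [← Cube.clsMod_tensorPow hL.1, ← Cube.clsMod_pullback ι]
        exact (Cube.clsMod_eq_iff _ _).2 ⟨θ⟩
      rw [Cube.clsMod_tensorPow hM, clsMod_of_inverse hL.1 hM hinv, Cube.clsMod_pullback ι htw, clsMod_twist N k q,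
        map_inv, map_pow, ← h1, inv_pow, ← pow_mul, mul_comm r q]
    obtain ⟨p⟩ : Nonempty (CohB1.tensorPow M (q * r + ρ) ≅
        CohB1.tensorMod (CohB1.tensorPow M ρ) (CohB1.tensorPow M (q * r))) := by
      refine (Cube.clsMod_eq_iff (Ample.isInvertible_tensorPow hM (q * r + ρ))
        (Ample.isInvertible_tensorMod (Ample.isInvertible_tensorPow hM ρ) hqr)).1 ?_
      rw [Cube.clsMod_tensorMod (Ample.isInvertible_tensorPow hM ρ) hqr, Cube.clsMod_tensorPow hM, Cube.clsMod_tensorPow hM, Cube.clsMod_tensorPow hM,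
        ← pow_add, add_comm]
    let T : CohB1.tensorMod F (CohB1.tensorPow M (q * r + ρ)) ≅ CohB1.tensorMod (G ρ) (CohB1.tensorPow M (q * r)) :=
      ((DCoh.tensorBi (X := X)).obj F).mapIso p ≪≫ (OX.tensorAssoc _ _ _).symm
    obtain ⟨T'⟩ := Regularity.nonempty_push_tensor ι (Euler.isFinLocFree_of_isInvertible htw) (G ρ) g
    haveI : (CohB1.tensorMod (G ρ) (CohB1.tensorPow M (q * r))).IsQuasicoherent :=
      (CMReg.isCoh_tensorMod (hG ρ) hqr).1
    obtain ⟨e⟩ := Snapper.nonempty_HH_linearEquiv_pushforward (A := k) ι hι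
      (CohB1.tensorMod (G ρ) (CohB1.tensorPow M (q * r))) i
    haveI := (Euler.hhEquiv (A := k) T' i).toEquiv.subsingleton_congr.2 hv
    haveI := e.toEquiv.subsingleton
    exact (Euler.hhEquiv (A := k) T i).toEquiv.subsingleton
  choose Q hQ using key
  refine ⟨((Finset.range r).sup Q + 1) * r, fun m hm i hi => ?_⟩
  have h2 : (Finset.range r).sup Q ≤ m / r :=
    (Nat.le_succ _).trans ((Nat.le_div_iff_mul_le hr).2 hm)
  have h3 := hQ (m % r) (m / r) ((Finset.le_sup (Finset.mem_range.2 (Nat.mod_lt m hr))).trans h2) i hi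
  rwa [Nat.div_add_mod' m r] at h3

end GrothLib.NegVan7
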